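import Mathlib

/-! Limits of sequences of modules of finite length are exact. -/

set_option autoImplicit false

universe u

namespace Groth.Agent.MLFinLength

open CategoryTheory CategoryTheory.Limits Opposite

variable {R : Type u} [CommRing R]

/-- A compatible family in the images of a map of systems with Artinian source lifts compatibly. -/
theorem exists_compatible_lift (P Q : ℕ → Type u) [∀ n, AddCommGroup (P n)] [∀ n, Module R (P n)]
    [∀ n, AddCommGroup (Q n)] [∀ n, Module R (Q n)] [∀ n, IsArtinian R (P n)]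
    (f : ∀ {n m : ℕ}, n ≤ m → (P m →ₗ[R] P n)) (g : ∀ {n m : ℕ}, n ≤ m → (Q m →ₗ[R] Q n))
    (hf0 : ∀ n x, f (le_refl n) x = x)
    (hf : ∀ {l n m : ℕ} (h₁ : l ≤ n) (h₂ : n ≤ m) x, f h₁ (f h₂ x) = f (h₁.trans h₂) x)
    (p : ∀ n, P n →ₗ[R] Q n) (hp : ∀ {n m : ℕ} (h : n ≤ m) x, p n (f h x) = g h (p m x))
    (q : ∀ n, Q n) (hq : ∀ {n m : ℕ} (h : n ≤ m), g h (q m) = q n) (hex : ∀ n, ∃ x, p n x = q n) :
    ∃ x : ∀ n, P n, (∀ {n m : ℕ} (h : n ≤ m), f h (x m) = x n) ∧ ∀ n, p n (x n) = q n := by
  classical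
  -- images of the kernels in `P n`
  let I : ∀ n, ℕ →o (Submodule R (P n))ᵒᵈ := fun n =>
    { toFun := fun j => OrderDual.toDual ((LinearMap.ker (p (n + j))).map (f (Nat.le_add_right n j)))
      monotone' := fun i j hij => by
        rintro x ⟨y, hy, rfl⟩
        refine ⟨f (Nat.add_le_add_left hij n) y, ?_, hf _ _ _⟩
        rw [SetLike.mem_coe, LinearMap.mem_ker, hp, show p (n + j) y = 0 from hy, map_zero] }
  choose J hJ using fun n => IsArtinian.monotone_stabilizes (I n)
  -- elements of `P n` that lift to solutions at every level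
  let D : ∀ n, Set (P n) := fun n => {x | ∀ m (h : n ≤ m), ∃ y, p m y = q m ∧ f h y = x}
  have hD : ∀ n m (h : n ≤ m), n + J n ≤ m → ∀ y, p m y = q m → f h y ∈ D n := by
    intro n m h hm y hy m' h'
    rcases le_total m' m with hle | hle
    · exact ⟨f hle y, by rw [hp, hy, hq], hf _ _ _⟩
    · obtain ⟨j, rfl⟩ := Nat.exists_eq_add_of_le h
      obtain ⟨j', rfl⟩ := Nat.exists_eq_add_of_le h'
      obtain ⟨y', hy'⟩ := hex (n + j')
      have hk : f h y - f h' y' ∈ (I n j).ofDual := by
        refine ⟨y - f hle y', ?_, ?_⟩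
        · rw [SetLike.mem_coe, LinearMap.mem_ker, map_sub, hp, hy, hy', hq, sub_self]
        · rw [map_sub, hf]
      rw [← hJ n j (by omega), hJ n j' (by omega)] at hk
      obtain ⟨z, hz, hz'⟩ := hk
      exact ⟨y' + z, by rw [map_add, hy', show p (n + j') z = 0 from hz, add_zero], by
        rw [map_add, hz']; abel⟩
  have hD0 : ∃ x, x ∈ D 0 := by
    obtain ⟨y, hy⟩ := hex (0 + J 0)
    exact ⟨_, hD 0 _ (Nat.zero_le _) le_rfl y hy⟩
  have hstep : ∀ n, ∀ x ∈ D n, ∃ x' ∈ D (n + 1), f (Nat.le_succ n) x' = x := by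
    intro n x hx
    obtain ⟨y, hy, rfl⟩ := hx (n + 1 + J (n + 1)) (by omega)
    exact ⟨f (Nat.le_add_right _ _) y, hD (n + 1) _ (Nat.le_add_right _ _) le_rfl y hy, hf _ _ _⟩
  choose s hs hs' using hstep
  let x : ∀ n, {a : P n // a ∈ D n} := fun n =>
    Nat.rec (motive := fun n => {a : P n // a ∈ D n}) ⟨hD0.choose, hD0.choose_spec⟩
      (fun n a => ⟨s n a.1 a.2, hs n a.1 a.2⟩) n
  have hx1 : ∀ n, f (Nat.le_succ n) (x (n + 1)).1 = (x n).1 := fun n => hs' n _ _
  refine ⟨fun n => (x n).1, fun {n m} h => ?_, fun n => ?_⟩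
  · induction h with
    | refl => exact hf0 _ _
    | @step m h ih => exact ((hf h (Nat.le_succ m) _).symm.trans (congrArg (f h) (hx1 m))).trans ih
  · obtain ⟨y, hy, hyx⟩ := (x n).2 n le_rfl
    rw [hf0] at hyx
    show p n (x n).1 = q n
    rw [← hyx, hy]

variable (M : ℕᵒᵖ ⥤ ModuleCat.{u} R) (N : Type u) [AddCommGroup N] [Module R N]

open MonoidalCategory in
theorem isIso_post (hM : ∀ n : ℕᵒᵖ, IsFiniteLength R (M.obj n)) [Module.FinitePresentation R N] :
    IsIso (limit.post M (tensorRight (ModuleCat.of R N))) := by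
  classical
  obtain ⟨b, a, g, F, hg, hgF⟩ := Module.FinitePresentation.exists_fin' R N
  let π := fun n => (limit.π M n).hom
  let Φ : ∀ X : ModuleCat.{u} R, (Fin b → X) →ₗ[R] TensorProduct R X N := fun X =>
    g.lTensor X ∘ₗ (TensorProduct.piScalarRight R R X (Fin b)).symm.toLinearMap
  have hΦsurj : ∀ X, Function.Surjective (Φ X) := fun X =>
    (LinearMap.lTensor_surjective X hg).comp (LinearEquiv.surjective _)
  let Ψ : ∀ X : ModuleCat.{u} R, (Fin a → X) →ₗ[R] (Fin b → X) := fun X =>
    (TensorProduct.piScalarRight R R X (Fin b)).toLinearMap ∘ₗ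
      F.lTensor X ∘ₗ (TensorProduct.piScalarRight R R X (Fin a)).symm.toLinearMap
  have hex : ∀ X v, Φ X v = 0 ↔ ∃ w, Ψ X w = v := by
    intro X v
    refine ((lTensor_exact X hgF hg) ((TensorProduct.piScalarRight R R X (Fin b)).symm v)).trans ⟨?_, ?_⟩
    · rintro ⟨t, ht⟩
      exact ⟨TensorProduct.piScalarRight R R X (Fin a) t, by simp [Ψ, ht, -TensorProduct.piScalarRight_apply]⟩
    · rintro ⟨w, rfl⟩
      exact ⟨(TensorProduct.piScalarRight R R X (Fin a)).symm w, by simp [Ψ, -TensorProduct.piScalarRight_apply]⟩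
  have hcomm : ∀ (c : ℕ) {X Y : ModuleCat.{u} R} (l : X →ₗ[R] Y) (v : Fin c → X),
      l.rTensor (Fin c → R) ((TensorProduct.piScalarRight R R X (Fin c)).symm v) =
        (TensorProduct.piScalarRight R R Y (Fin c)).symm (l.compLeft _ v) := by
    intro c X Y l v
    have : l.rTensor (Fin c → R) ∘ₗ (TensorProduct.piScalarRight R R X (Fin c)).symm.toLinearMap =
        (TensorProduct.piScalarRight R R Y (Fin c)).symm.toLinearMap ∘ₗ l.compLeft (Fin c) := by
      refine LinearMap.pi_ext fun i x => ?_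
      simp only [LinearMap.comp_apply, LinearEquiv.coe_coe]
      rw [show l.compLeft (Fin c) (Pi.single i x) = Pi.single i (l x) from
        funext fun j => by by_cases hj : j = i <;> [subst hj; skip] <;> simp [*]]
      rw [TensorProduct.piScalarRight_symm_single, TensorProduct.piScalarRight_symm_single,
        LinearMap.rTensor_tmul]
    exact LinearMap.congr_fun this v
  have hΦnat : ∀ {X Y : ModuleCat.{u} R} (l : X →ₗ[R] Y) (v : Fin b → X),
      l.rTensor N (Φ X v) = Φ Y (l.compLeft _ v) := by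
    intro X Y l v
    simp only [Φ, LinearMap.comp_apply, LinearEquiv.coe_coe, ← hcomm]
    rw [← LinearMap.comp_apply (l.rTensor N), LinearMap.rTensor_comp_lTensor,
      ← LinearMap.lTensor_comp_rTensor, LinearMap.comp_apply]
  have hΨnat : ∀ {X Y : ModuleCat.{u} R} (l : X →ₗ[R] Y) (w : Fin a → X),
      l.compLeft _ (Ψ X w) = Ψ Y (l.compLeft _ w) := by
    intro X Y l w
    apply (TensorProduct.piScalarRight R R Y (Fin b)).symm.injective
    simp only [Ψ, LinearMap.comp_apply, LinearEquiv.coe_coe, ← hcomm, LinearEquiv.symm_apply_apply]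
    rw [← LinearMap.comp_apply (l.rTensor (Fin b → R)), LinearMap.rTensor_comp_lTensor,
      ← LinearMap.lTensor_comp_rTensor, LinearMap.comp_apply]
  let t : ∀ {n m : ℕ}, n ≤ m → (M.obj (op m) →ₗ[R] M.obj (op n)) := fun h => (M.map (homOfLE h).op).hom
  have ht0 : ∀ n x, t (le_refl n) x = x := fun n x => by
    show (M.map (homOfLE (le_refl n)).op).hom x = x
    rw [show (homOfLE (le_refl n)).op = 𝟙 (op n) from rfl, M.map_id]; rfl
  have ht : ∀ {l n m : ℕ} (h₁ : l ≤ n) (h₂ : n ≤ m) x, t h₁ (t h₂ x) = t (h₁.trans h₂) x := fun h₁ h₂ x => by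
    show (M.map (homOfLE h₂).op ≫ M.map (homOfLE h₁).op).hom x = _
    rw [← M.map_comp]; rfl
  haveI : ∀ n, IsArtinian R (M.obj n) := fun n => (isFiniteLength_iff_isNoetherian_isArtinian.1 (hM n)).2
  have hcompat : ∀ {n m : ℕ} (h : n ≤ m) (x : ↥(limit M)), t h (π (op m) x) = π (op n) x := fun h x => by
    show (limit.π M _ ≫ M.map (homOfLE h).op).hom x = _
    rw [limit.w]
  have hlim : ∀ (c : ℕ) (x : ∀ n : ℕ, Fin c → M.obj (op n)),
      (∀ {n m : ℕ} (h : n ≤ m), (t h).compLeft _ (x m) = x n) →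
      ∃ z : Fin c → ↥(limit M), ∀ n : ℕ, (π (op n)).compLeft _ z = x n := by
    intro c x hx
    let K : Fin c → Cone M := fun i =>
      { pt := ModuleCat.of R R
        π :=
          { app := fun n => ModuleCat.ofHom (LinearMap.toSpanSingleton R _ (x n.unop i))
            naturality := fun n m e => ModuleCat.hom_ext (LinearMap.ext_ring (by
              change (1 : R) • x m.unop i = (M.map e).hom ((1 : R) • x n.unop i)
              rw [one_smul, one_smul]
              exact (congrFun (hx (leOfHom e.unop)) i).symm)) } }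
    refine ⟨fun i => (limit.lift M (K i)).hom (show (K i).pt from (1 : R)), fun n => funext fun i => ?_⟩
    change (limit.lift M (K i) ≫ limit.π M (op n)).hom (show (K i).pt from (1 : R)) = _
    rw [limit.lift_π]
    exact LinearMap.toSpanSingleton_apply_one R _ _
  rw [ConcreteCategory.isIso_iff_bijective]
  have hpost : ∀ (n : ℕᵒᵖ) (z : TensorProduct R ↥(limit M) N),
      (limit.π (M ⋙ tensorRight (ModuleCat.of R N)) n).hom
        ((limit.post M (tensorRight (ModuleCat.of R N))).hom z) = (π n).rTensor N z := by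
    intro n z
    change (limit.post M (tensorRight (ModuleCat.of R N)) ≫ limit.π _ n).hom z = _
    rw [limit.post_π]
    rfl
  constructor
  · rw [injective_iff_map_eq_zero]
    intro z hz
    obtain ⟨v, rfl⟩ := hΦsurj _ z
    have hv : ∀ n : ℕ, ∃ w, Ψ (M.obj (op n)) w = (π (op n)).compLeft _ v := fun n => by
      refine (hex _ _).1 ?_
      rw [← hΦnat, ← hpost, show (limit.post M (tensorRight (ModuleCat.of R N))).hom (Φ _ v) = 0 from hz]
      exact map_zero _
    obtain ⟨w, hw, hw'⟩ := exists_compatible_lift (fun n => Fin a → M.obj (op n)) (fun n => Fin b → M.obj (op n))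
      (fun h => (t h).compLeft _) (fun h => (t h).compLeft _) (fun n x => funext fun i => ht0 n (x i))
      (fun h₁ h₂ x => funext fun i => ht h₁ h₂ (x i)) (fun n => Ψ _) (fun h x => (hΨnat (t h) x).symm)
      (fun n => (π (op n)).compLeft _ v) (fun h => funext fun i => hcompat h (v i)) hv
    obtain ⟨w', hw''⟩ := hlim a w hw
    refine (hex _ _).2 ⟨w', funext fun i => Concrete.limit_ext M _ _ fun n => ?_⟩
    have := congrFun ((hΨnat (π (op n.unop)) w').trans
      ((congrArg (Ψ _) (hw'' n.unop)).trans (hw' n.unop))) i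
    exact this
  · intro y
    let q : ∀ n : ℕ, TensorProduct R (M.obj (op n)) N := fun n =>
      (limit.π (M ⋙ tensorRight (ModuleCat.of R N)) (op n)).hom y
    obtain ⟨v, hv, hv'⟩ := exists_compatible_lift (fun n => Fin b → M.obj (op n))
      (fun n => TensorProduct R (M.obj (op n)) N)
      (fun h => (t h).compLeft _) (fun h => (t h).rTensor N) (fun n x => funext fun i => ht0 n (x i))
      (fun h₁ h₂ x => funext fun i => ht h₁ h₂ (x i)) (fun n => Φ _) (fun h x => (hΦnat (t h) x).symm) q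
      (fun h => by
        show (limit.π (M ⋙ tensorRight (ModuleCat.of R N)) _ ≫
          (M ⋙ tensorRight (ModuleCat.of R N)).map (homOfLE h).op).hom y = _
        rw [limit.w])
      (fun n => hΦsurj _ _)
    obtain ⟨v', hv''⟩ := hlim b v hv
    refine ⟨Φ _ v', Concrete.limit_ext _ _ _ fun n => ?_⟩
    exact (hpost n _).trans ((hΦnat (π n) v').trans ((congrArg (Φ _) (hv'' n.unop)).trans (hv' n.unop)))

end Groth.Agent.MLFinLength
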